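/-
Linear groups in which every stabilizer of a non-identity element is maximal: no abelian
normal subgroups, and characteristic two.
-/
import Mathlib
import Cfsg.Agent.S0205

set_option autoImplicit false
set_option linter.style.haveILetI false

namespace CfsgLib.Recog.ExtremelyPrimitive

open MulAction

variable {H : Type*} [Group H] [Finite H] {V : Type*} [CommGroup V] [Finite V]
  [MulDistribMulAction H V]

variable (H V) in
/-- Irreducible, faithful, with all stabilizers of non-identity elements maximal. -/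
structure Hyp : Prop where
  irr : ∀ W : Subgroup V, (∀ (h : H), ∀ n ∈ W, h • n ∈ W) → W = ⊥ ∨ W = ⊤
  faith : ∀ h : H, (∀ n : V, h • n = n) → h = 1
  coatom : ∀ n : V, n ≠ 1 → IsCoatom (stabilizer H n)
  nonsolv : ¬ Group.IsSolvable H

/-- The elements fixed by a subgroup. -/
def fixV (K : Subgroup H) : Subgroup V where
  carrier := {n | ∀ k ∈ K, k • n = n}
  mul_mem' := fun {a b} ha hb k hk => by rw [smul_mul', ha k hk, hb k hk]
  one_mem' := fun k _ => smul_one k
  inv_mem' := fun {a} ha k hk => by rw [smul_inv', ha k hk]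

variable (hyp : Hyp H V)
include hyp

theorem Hyp.normal_fix {K : Subgroup H} (hK : K.Normal) (hK1 : K ≠ ⊥) {n : V}
    (h : ∀ k ∈ K, k • n = n) : n = 1 := by
  rcases hyp.irr (fixV K) (fun g m hm k hk => by
    have hk' : g⁻¹ * k * g ∈ K := by simpa using hK.conj_mem k hk g⁻¹
    have := congrArg (g • ·) (hm _ hk')
    simpa [smul_smul, mul_assoc] using this) with e | e
  · have : n ∈ fixV (V := V) K := h
    rwa [e, Subgroup.mem_bot] at this
  · refine absurd ((Subgroup.eq_bot_iff_forall K).2 fun k hk => hyp.faith k fun m => ?_) hK1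
    have : m ∈ fixV (V := V) K := by rw [e]; trivial
    exact this k hk

theorem Hyp.normal_not_le {K : Subgroup H} (hK : K.Normal) (hK1 : K ≠ ⊥) {n : V} (hn : n ≠ 1) :
    ¬ K ≤ stabilizer H n := fun h => hn (hyp.normal_fix hK hK1 fun _ hk => h hk)

theorem Hyp.decomp {K : Subgroup H} (hK : K.Normal) (hK1 : K ≠ ⊥) {n : V} (hn : n ≠ 1) (h : H) :
    ∃ k ∈ K, ∃ s ∈ stabilizer H n, h = k * s := by
  have htop : K ⊔ stabilizer H n = ⊤ :=
    (hyp.coatom n hn).2 _ (lt_of_le_of_ne le_sup_right fun e =>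
      hyp.normal_not_le hK hK1 hn (e ▸ le_sup_left))
  have hmem : h ∈ (↑(K ⊔ stabilizer H n) : Set H) := by rw [htop]; trivial
  rw [Subgroup.normal_mul] at hmem
  obtain ⟨k, hk, s, hs, rfl⟩ := Set.mem_mul.1 hmem
  exact ⟨k, hk, s, hs, rfl⟩

omit hyp in
theorem exists_minimal_normal {K : Subgroup H} (hK : K.Normal) (hK1 : K ≠ ⊥) :
    ∃ M : Subgroup H, M.Normal ∧ M ≠ ⊥ ∧ M ≤ K ∧
      ∀ L : Subgroup H, L.Normal → L ≤ M → L ≠ ⊥ → L = M := by
  obtain ⟨M, ⟨h1, h2, h3⟩, hmin⟩ := Set.Finite.exists_minimalFor (fun L : Subgroup H => Nat.card L)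
    {L : Subgroup H | L.Normal ∧ L ≠ ⊥ ∧ L ≤ K} (Set.toFinite _) ⟨K, hK, hK1, le_rfl⟩
  refine ⟨M, h1, h2, h3, fun L hL hLM hL1 => Subgroup.eq_of_le_of_card_ge hLM ?_⟩
  exact hmin (show L ∈ {L : Subgroup H | L.Normal ∧ L ≠ ⊥ ∧ L ≤ K} from ⟨hL, hL1, hLM.trans h3⟩)
    (Subgroup.card_le_of_le hLM)

/-- A product over a cyclic group of a fixed-point-free element vanishes. -/
theorem Hyp.cyc_prod {q : ℕ} (hq : 0 < q) {x : H} (hxq : x ^ q = 1)
    (hfpf : ∀ n : V, x • n = n → n = 1) (n : V) : (∏ i ∈ Finset.range q, x ^ i • n) = 1 := by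
  clear hyp
  refine hfpf _ ?_
  obtain ⟨q, rfl⟩ : ∃ r, q = r + 1 := ⟨q - 1, by omega⟩
  rw [Finset.smul_prod']
  conv_rhs => rw [Finset.prod_range_succ']
  rw [Finset.prod_range_succ]
  congr 1
  · exact Finset.prod_congr rfl fun i _ => by rw [smul_smul, ← pow_succ']
  · rw [smul_smul, ← pow_succ', hxq, pow_zero]

theorem Hyp.no_abelian_normal {p : ℕ} (hp : p.Prime) (hexp : ∀ n : V, n ^ p = 1)
    {K : Subgroup H} (hK : K.Normal) (hc : ∀ a ∈ K, ∀ b ∈ K, a * b = b * a) : K = ⊥ := by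
  by_contra hK1
  obtain ⟨M, hM, hM1, hMK, hmin⟩ := exists_minimal_normal hK hK1
  have hMc : ∀ a ∈ M, ∀ b ∈ M, a * b = b * a := fun a ha b hb => hc a (hMK ha) b (hMK hb)
  obtain ⟨n₀, hn₀⟩ : ∃ n : V, n ≠ 1 := by
    by_contra hall
    push Not at hall
    exact hM1 ((Subgroup.eq_bot_iff_forall M).2 fun k _ => hyp.faith k fun n => by
      rw [hall n, smul_one])
  -- semiregular
  have hfree : ∀ x ∈ M, x ≠ 1 → ∀ n : V, x • n = n → n = 1 := by
    intro x hx hx1 n hxn
    by_contra hn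
    have hN : (M ⊓ stabilizer H n).Normal := ⟨fun y hy h => by
      obtain ⟨k, hk, s, hs, rfl⟩ := hyp.decomp hM hM1 hn h
      have hsy : s * y * s⁻¹ ∈ M ⊓ stabilizer H n :=
        ⟨hM.conj_mem y hy.1 s, (stabilizer H n).mul_mem ((stabilizer H n).mul_mem hs hy.2) ((stabilizer H n).inv_mem hs)⟩
      have : k * s * y * (k * s)⁻¹ = s * y * s⁻¹ := by
        calc k * s * y * (k * s)⁻¹ = k * (s * y * s⁻¹) * k⁻¹ := by group
          _ = s * y * s⁻¹ := by rw [hMc k hk _ hsy.1, mul_inv_cancel_right]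
      rwa [this]⟩
    by_cases hbot : M ⊓ stabilizer H n = ⊥
    · have : x ∈ M ⊓ stabilizer H n := ⟨hx, hxn⟩
      rw [hbot, Subgroup.mem_bot] at this
      exact hx1 this
    · exact hn (hyp.normal_fix hN hbot fun k hk => hk.2)
  -- exponent a prime
  have hcard : 1 < Nat.card M := (Subgroup.one_lt_card_iff_ne_bot M).2 hM1
  obtain ⟨q, hq, hqd⟩ := Nat.exists_prime_and_dvd (Nat.ne_of_gt hcard)
  haveI := Fact.mk hq
  haveI := Fact.mk hp
  obtain ⟨⟨a, haM⟩, haq⟩ := exists_prime_orderOf_dvd_card' q hqd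
  have haq' : orderOf a = q := by rw [← haq, Subgroup.orderOf_mk]
  have ha1 : a ≠ 1 := fun e => hq.ne_one (by rw [← haq', e, orderOf_one])
  let Mq : Subgroup H :=
    { carrier := {x | x ∈ M ∧ x ^ q = 1}
      mul_mem' := fun {x y} hx hy => ⟨mul_mem hx.1 hy.1, by
        rw [(show Commute x y from hMc x hx.1 y hy.1).mul_pow, hx.2, hy.2, one_mul]⟩
      one_mem' := ⟨one_mem _, one_pow _⟩
      inv_mem' := fun {x} hx => ⟨inv_mem hx.1, by rw [inv_pow, hx.2, inv_one]⟩ }
  have hMq : Mq = M := hmin Mq ⟨fun x hx g => ⟨hM.conj_mem x hx.1 g, by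
    rw [conj_pow, hx.2, mul_one, mul_inv_cancel]⟩⟩ (fun x hx => hx.1) fun e => by
      have : a ∈ Mq := ⟨haM, by rw [← haq']; exact pow_orderOf_eq_one a⟩
      rw [e, Subgroup.mem_bot] at this
      exact ha1 this
  have hexpM : ∀ x ∈ M, x ^ q = 1 := fun x hx => (show x ∈ Mq by rwa [hMq]).2
  -- the prime differs from p
  have hqp : q ≠ p := by
    rintro rfl
    have hpg : IsPGroup q (Subgroup.zpowers a) :=
      IsPGroup.of_card (n := 1) (by rw [Nat.card_zpowers, haq', pow_one])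
    have hdvd : q ∣ Nat.card V := by
      have ho : orderOf n₀ = q := orderOf_eq_prime (hexp n₀) hn₀
      exact ho ▸ orderOf_dvd_natCard n₀
    have hone : (1 : V) ∈ fixedPoints (Subgroup.zpowers a) V := fun x => smul_one _
    obtain ⟨b, hb, hb1⟩ := hpg.exists_fixed_point_of_prime_dvd_card_of_fixed_point V hdvd hone
    exact hb1 (hfree a haM ha1 b (hb ⟨a, Subgroup.mem_zpowers a⟩)).symm
  -- cyclic
  have hcyc : ∀ b ∈ M, b ∈ Subgroup.zpowers a := by
    intro b hb
    by_contra hbz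
    apply hn₀
    have hcab : ∀ c : ℕ, a * b ^ c ≠ 1 := by
      intro c e
      by_cases hc0 : q ∣ c
      · obtain ⟨d, rfl⟩ := hc0
        rw [pow_mul, hexpM b hb, one_pow, mul_one] at e
        exact ha1 e
      · obtain ⟨m, -, hm⟩ := Nat.exists_mul_mod_eq_one_of_coprime
          ((Nat.Prime.coprime_iff_not_dvd hq).2 hc0).symm hq.one_lt
        refine hbz ?_
        have : b = (b ^ c) ^ m := by
          rw [← pow_mul, pow_eq_pow_mod (c * m) (hexpM b hb), hm, pow_one]
        rw [this, eq_inv_of_mul_eq_one_right e]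
        exact pow_mem (inv_mem (Subgroup.mem_zpowers a)) m
    have hb1 : b ≠ 1 := fun e => hbz (e ▸ one_mem _)
    have hSb : ∀ i : ℕ, (∏ j ∈ Finset.range q, (a ^ i * b ^ j) • n₀) = 1 := by
      intro i
      have := congrArg (a ^ i • ·)
        (hyp.cyc_prod hq.pos (hexpM b hb) (fun n h => hfree b hb hb1 n h) n₀)
      simpa [Finset.smul_prod', smul_smul] using this
    have h1 : (∏ c ∈ Finset.range q, ∏ i ∈ Finset.range q, (a ^ i * b ^ (c * i)) • n₀) = 1 :=
      Finset.prod_eq_one fun c _ => by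
        have hcom : Commute a (b ^ c) := hMc a haM _ (pow_mem hb c)
        have := hyp.cyc_prod hq.pos (hexpM _ (mul_mem haM (pow_mem hb c)))
          (fun n h => hfree _ (mul_mem haM (pow_mem hb c)) (hcab c) n h) n₀
        simpa [hcom.mul_pow, ← pow_mul] using this
    rw [Finset.prod_comm, ← Finset.mul_prod_erase _ _ (Finset.mem_range.2 hq.pos)] at h1
    have h2 : ∀ i ∈ (Finset.range q).erase 0,
        (∏ c ∈ Finset.range q, (a ^ i * b ^ (c * i)) • n₀) = 1 := by
      intro i hi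
      obtain ⟨hi0, hiq⟩ := Finset.mem_erase.1 hi
      rw [Finset.mem_range] at hiq
      rw [← hSb i]
      have hcop : Nat.Coprime i q :=
        ((Nat.Prime.coprime_iff_not_dvd hq).2 (fun hd => hi0 (Nat.eq_zero_of_dvd_of_lt hd hiq))).symm
      have hinj : Set.InjOn (fun c => c * i % q) (Finset.range q : Set ℕ) := by
        intro c hc d hd e
        rw [Finset.coe_range, Set.mem_Iio] at hc hd
        have e' : c * i ≡ d * i [MOD q] := e
        exact (Nat.ModEq.cancel_right_of_coprime (by rwa [Nat.gcd_comm]) e').eq_of_lt_of_lt hc hd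
      have himg : (Finset.range q).image (fun c => c * i % q) = Finset.range q :=
        Finset.eq_of_subset_of_card_le
          (fun x hx => by
            obtain ⟨c, -, rfl⟩ := Finset.mem_image.1 hx
            exact Finset.mem_range.2 (Nat.mod_lt _ hq.pos))
          (by rw [Finset.card_image_of_injOn hinj])
      conv_rhs => rw [← himg, Finset.prod_image hinj]
      exact Finset.prod_congr rfl fun c _ => by rw [← pow_eq_pow_mod (c * i) (hexpM b hb)]
    rw [Finset.prod_congr rfl h2, Finset.prod_const_one, mul_one] at h1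
    simp only [pow_zero, mul_zero, one_mul, one_smul, Finset.prod_const, Finset.card_range] at h1
    have hd : orderOf n₀ ∣ Nat.gcd p q :=
      Nat.dvd_gcd (orderOf_dvd_of_pow_eq_one (hexp n₀)) (orderOf_dvd_of_pow_eq_one h1)
    rwa [(Nat.coprime_primes hp hq).2 (Ne.symm hqp), Nat.dvd_one, orderOf_eq_one_iff] at hd
  -- self-centralizing, hence solvable
  have hcent : ∀ x : H, x * a = a * x → x ∈ M := by
    intro x hx
    have hxM : ∀ y ∈ M, x * y = y * x := fun y hy => by
      obtain ⟨j, rfl⟩ := Subgroup.mem_zpowers_iff.1 (hcyc y hy)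
      exact (show Commute x a from hx).zpow_right j
    obtain ⟨k, hk, s, hs, rfl⟩ := hyp.decomp hM hM1 hn₀ x
    have hsc : ∀ y ∈ M, s * y = y * s := fun y hy => by
      have := hxM y hy
      rw [mul_assoc, ← mul_assoc y k, hMc y hy k hk, mul_assoc] at this
      exact mul_left_cancel this
    let C : Subgroup H :=
      { carrier := {z | z ∈ stabilizer H n₀ ∧ ∀ y ∈ M, z * y = y * z}
        mul_mem' := fun {u v} hu hv => ⟨mul_mem hu.1 hv.1, fun y hy => by
          rw [mul_assoc, hv.2 y hy, ← mul_assoc, hu.2 y hy, mul_assoc]⟩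
        one_mem' := ⟨one_mem _, fun y _ => by rw [one_mul, mul_one]⟩
        inv_mem' := fun {u} hu => ⟨inv_mem hu.1, fun y hy =>
          ((show Commute u y from hu.2 y hy).inv_left).eq⟩ }
    have hC : C.Normal := ⟨fun z hz h => by
      obtain ⟨k', hk', s', hs', rfl⟩ := hyp.decomp hM hM1 hn₀ h
      have hz' : s' * z * s'⁻¹ ∈ C := ⟨(stabilizer H n₀).mul_mem ((stabilizer H n₀).mul_mem hs' hz.1) ((stabilizer H n₀).inv_mem hs'), fun y hy => by
        have hy' : s'⁻¹ * y * s' ∈ M := by simpa using hM.conj_mem y hy s'⁻¹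
        calc s' * z * s'⁻¹ * y = s' * (z * (s'⁻¹ * y * s')) * s'⁻¹ := by group
          _ = s' * ((s'⁻¹ * y * s') * z) * s'⁻¹ := by rw [hz.2 _ hy']
          _ = y * (s' * z * s'⁻¹) := by group⟩
      have e : k' * s' * z * (k' * s')⁻¹ = s' * z * s'⁻¹ := by
        calc k' * s' * z * (k' * s')⁻¹ = k' * (s' * z * s'⁻¹) * k'⁻¹ := by group
          _ = s' * z * s'⁻¹ := by rw [← hz'.2 k' hk', mul_inv_cancel_right]
      rwa [e]⟩
    by_cases hC1 : C = ⊥
    · have : s ∈ C := ⟨hs, hsc⟩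
      rw [hC1, Subgroup.mem_bot] at this
      rw [this, mul_one]
      exact hk
    · exact absurd (hyp.normal_fix hC hC1 fun z hz => hz.1) hn₀
  apply hyp.nonsolv
  haveI := hM
  have hpow : ∀ g : H, ∃ i : ℤ, g * a * g⁻¹ = a ^ i := fun g => by
    obtain ⟨i, hi⟩ := Subgroup.mem_zpowers_iff.1 (hcyc _ (hM.conj_mem a haM g))
    exact ⟨i, hi.symm⟩
  have hab : ∀ g h : H, (h * g)⁻¹ * (g * h) ∈ M := by
    intro g h
    refine hcent _ ?_
    obtain ⟨i, hi⟩ := hpow g
    obtain ⟨j, hj⟩ := hpow h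
    have e : (g * h) * a * (g * h)⁻¹ = (h * g) * a * (h * g)⁻¹ := by
      calc (g * h) * a * (g * h)⁻¹ = g * (h * a * h⁻¹) * g⁻¹ := by group
        _ = (g * a * g⁻¹) ^ j := by rw [hj, conj_zpow]
        _ = (h * a * h⁻¹) ^ i := by rw [hi, hj, ← zpow_mul, ← zpow_mul, mul_comm]
        _ = h * (g * a * g⁻¹) * h⁻¹ := by rw [hi, conj_zpow]
        _ = (h * g) * a * (h * g)⁻¹ := by group
    calc (h * g)⁻¹ * (g * h) * a
        = (h * g)⁻¹ * ((g * h) * a * (g * h)⁻¹) * (g * h) := by group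
      _ = (h * g)⁻¹ * ((h * g) * a * (h * g)⁻¹) * (g * h) := by rw [e]
      _ = a * ((h * g)⁻¹ * (g * h)) := by group
  have hcom : commutator H ≤ M := by
    rw [commutator_def, Subgroup.commutator_le]
    intro g _ h _
    have := hab g⁻¹ h⁻¹
    simpa [commutatorElement_def, mul_assoc] using this
  refine (Group.isSolvable_def H).2 ⟨2, ?_⟩
  rw [derivedSeries_succ, derivedSeries_one, Subgroup.commutator_eq_bot_iff_le_centralizer]
  intro x hx y hy
  exact hMc y (hcom hy) x (hcom hx)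

/-- A minimal normal subgroup has even order. -/
theorem Hyp.minimal_even {p : ℕ} (hp : p.Prime) (hexp : ∀ n : V, n ^ p = 1)
    {M : Subgroup H} (hM : M.Normal) (hM1 : M ≠ ⊥)
    (hmin : ∀ L : Subgroup H, L.Normal → L ≤ M → L ≠ ⊥ → L = M) : 2 ∣ Nat.card M := by
  by_contra hodd
  haveI : Group.IsSolvable M := Cfsg.Agent.S0205.result (Nat.odd_iff.2 (by omega))
  haveI := hM
  by_cases hbot : ⁅M, M⁆ = ⊥
  · exact hM1 (hyp.no_abelian_normal hp hexp hM fun a ha b hb =>
      ((Subgroup.commutator_eq_bot_iff_le_centralizer.1 hbot) hb a ha))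
  · have heq := hmin ⁅M, M⁆ inferInstance (Subgroup.commutator_le_right M M) hbot
    haveI : Nontrivial M := (Subgroup.nontrivial_iff_ne_bot M).2 hM1
    refine (Group.IsSolvable.commutator_lt_top_of_nontrivial M).ne
      (Subgroup.map_injective M.subtype_injective ?_)
    rw [Subgroup.map_subtype_commutator, heq, ← MonoidHom.range_eq_map, Subgroup.range_subtype]

/-- The characteristic is two. -/
theorem Hyp.prime_eq_two {p : ℕ} (hp : p.Prime) (hexp : ∀ n : V, n ^ p = 1) : p = 2 := by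
  have htop : (⊤ : Subgroup H) ≠ ⊥ := by
    intro e
    haveI : Subsingleton H := (Subgroup.subsingleton_iff).1 (subsingleton_of_bot_eq_top e.symm)
    exact hyp.nonsolv inferInstance
  obtain ⟨M, hM, hM1, -, hmin⟩ := exists_minimal_normal (inferInstance : (⊤ : Subgroup H).Normal) htop
  haveI := Fact.mk Nat.prime_two
  obtain ⟨⟨t, htM⟩, ht⟩ := exists_prime_orderOf_dvd_card' 2 (hyp.minimal_even hp hexp hM hM1 hmin)
  have ht2 : t * t = 1 := by
    rw [← pow_two, ← ht, Subgroup.orderOf_mk, pow_orderOf_eq_one]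
  have ht1 : t ≠ 1 := fun e => by simp [e, Subgroup.orderOf_mk] at ht
  obtain ⟨n₀, hn₀⟩ : ∃ n : V, t • n ≠ n := by
    by_contra hall
    push Not at hall
    exact ht1 (hyp.faith t hall)
  by_contra hp2
  set n := n₀ * (t • n₀)⁻¹ with hn
  have hn1 : n ≠ 1 := fun e => hn₀ (mul_inv_eq_one.1 e).symm
  have htn : t • n = n⁻¹ := by
    rw [hn, smul_mul', smul_inv', smul_smul, ht2, one_smul, mul_inv_rev, inv_inv]
  have hnsq : n ≠ n⁻¹ := by
    intro e
    have h2 : n ^ 2 = 1 := by rw [pow_two]; exact mul_eq_one_iff_eq_inv.2 e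
    have := Nat.dvd_gcd (orderOf_dvd_of_pow_eq_one (hexp n)) (orderOf_dvd_of_pow_eq_one h2)
    rw [(Nat.coprime_primes hp Nat.prime_two).2 hp2, Nat.dvd_one, orderOf_eq_one_iff] at this
    exact hn1 this
  have htS : t ∉ stabilizer H n := fun h => hnsq ((show t • n = n from h).symm.trans htn)
  have htN : t ∈ Subgroup.normalizer (stabilizer H n : Set H) := by
    have key : ∀ s ∈ stabilizer H n, t * s * t⁻¹ ∈ stabilizer H n := by
      intro s (hs : s • n = n)
      have hti : t⁻¹ = t := inv_eq_of_mul_eq_one_right ht2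
      show (t * s * t⁻¹) • n = n
      rw [hti, mul_smul, mul_smul, htn, smul_inv', hs, smul_inv', htn, inv_inv]
    refine Subgroup.mem_normalizer_iff.2 fun s => ⟨fun hs => key s hs, fun hs => ?_⟩
    have := key _ hs
    rwa [show t * (t * s * t⁻¹) * t⁻¹ = (t * t) * s * (t * t)⁻¹ by group, ht2, one_mul, inv_one,
      mul_one] at this
  have hnorm : (stabilizer H n).Normal := Subgroup.normalizer_eq_top_iff.1
    ((hyp.coatom n hn1).2 _ (lt_of_le_of_ne Subgroup.le_normalizer fun e => htS (e ▸ htN)))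
  by_cases hbot : stabilizer H n = ⊥
  · refine hyp.normal_not_le hM hM1 hn1 ?_
    have hc := hyp.coatom n hn1
    rw [hbot] at hc
    have := hc.2 (Subgroup.zpowers t) (bot_lt_iff_ne_bot.2 (by simpa using ht1))
    exfalso
    apply hyp.nonsolv
    refine (Group.isSolvable_def H).2 ⟨1, ?_⟩
    rw [derivedSeries_one, commutator_def, Subgroup.commutator_eq_bot_iff_le_centralizer, ← this]
    intro x hx y hy
    obtain ⟨i, rfl⟩ := Subgroup.mem_zpowers_iff.1 hx
    obtain ⟨j, rfl⟩ := Subgroup.mem_zpowers_iff.1 hy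
    exact ((Commute.refl t).zpow_zpow j i).eq
  · exact hn1 (hyp.normal_fix hnorm hbot fun k hk => hk)

end CfsgLib.Recog.ExtremelyPrimitive
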