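/-
The simple factors of a minimal normal subgroup in the setting of `Basic`, and the
dichotomy for the stabilizers.
-/
import Mathlib
import Cfsg.Agent.Lib.Recog.ExtremelyPrimitive.Basic

set_option autoImplicit false
set_option linter.style.haveILetI false

namespace CfsgLib.Recog.ExtremelyPrimitive

open MulAction

variable {H : Type*} [Group H] [Finite H] {V : Type*} [CommGroup V] [Finite V]
  [MulDistribMulAction H V]

/-- The simple factors of a minimal normal subgroup. -/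
structure Fam (M : Subgroup H) (F : Set (Subgroup H)) : Prop where
  normal : M.Normal
  ne_bot : M ≠ ⊥
  nonempty : F.Nonempty
  le : ∀ T ∈ F, T ≤ M
  mconj : ∀ T ∈ F, ∀ m ∈ M, ∀ x ∈ T, m * x * m⁻¹ ∈ T
  tne : ∀ T ∈ F, T ≠ ⊥
  simple : ∀ T ∈ F, ∀ K : Subgroup H, K ≤ T → K ≠ ⊥ → (∀ a ∈ T, ∀ k ∈ K, a * k * a⁻¹ ∈ K) → K = T
  comm : ∀ T ∈ F, ∀ S ∈ F, T ≠ S → ∀ x ∈ T, ∀ y ∈ S, x * y = y * x
  center : ∀ T ∈ F, ∀ a ∈ T, (∀ x ∈ T, a * x = x * a) → a = 1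
  centerM : ∀ a ∈ M, (∀ x ∈ M, a * x = x * a) → a = 1
  gen : ∀ K : Subgroup H, (∀ T ∈ F, T ≤ K) → M ≤ K
  conj : ∀ T ∈ F, ∀ h : H, ∃ S ∈ F, ∀ x, x ∈ T ↔ h * x * h⁻¹ ∈ S
  trans : ∀ T ∈ F, ∀ S ∈ F, ∃ h : H, ∀ x, x ∈ T ↔ h * x * h⁻¹ ∈ S

variable (hyp : Hyp H V)
include hyp

theorem Hyp.exists_fam {p : ℕ} (hp : p.Prime) (hexp : ∀ n : V, n ^ p = 1) {M : Subgroup H}
    (hM : M.Normal) (hM1 : M ≠ ⊥)
    (hmin : ∀ L : Subgroup H, L.Normal → L ≤ M → L ≠ ⊥ → L = M) :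
    ∃ F : Set (Subgroup H), Fam M F := by
  let MN : Subgroup H → Prop := fun T => T ≠ ⊥ ∧ T ≤ M ∧ ∀ m ∈ M, ∀ x ∈ T, m * x * m⁻¹ ∈ T
  obtain ⟨T₀, hT₀, hT₀min⟩ := Set.Finite.exists_minimalFor (fun T : Subgroup H => Nat.card T)
    {T | MN T} (Set.toFinite _) ⟨M, hM1, le_rfl, fun m _ x hx => hM.conj_mem x hx m⟩
  have hminMN : ∀ T K : Subgroup H, Nat.card T = Nat.card T₀ → MN K → K ≤ T → K = T :=
    fun T K hT hK hKT => Subgroup.eq_of_le_of_card_ge hKT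
      (hT ▸ hT₀min hK ((Subgroup.card_le_of_le hKT).trans hT.le))
  let c : H → Subgroup H := fun h => T₀.map (MulAut.conj h).toMonoidHom
  have hcmem : ∀ h x, x ∈ c h ↔ h⁻¹ * x * h ∈ T₀ := by
    intro h x
    constructor
    · rintro ⟨y, hy, rfl⟩; simpa [mul_assoc] using hy
    · intro hx; exact ⟨_, hx, by simp [mul_assoc]⟩
  have hccard : ∀ h, Nat.card (c h) = Nat.card T₀ := fun h =>
    Subgroup.card_map_of_injective (MulAut.conj h).injective
  have hcMN : ∀ h, MN (c h) := by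
    intro h
    refine ⟨fun e => hT₀.1 (Subgroup.eq_bot_of_card_eq _ (by
      rw [← hccard h, e, Subgroup.card_bot])), fun x hx => ?_, fun m hm x hx => ?_⟩
    · have := hM.conj_mem _ (hT₀.2.1 ((hcmem h x).1 hx)) h
      simpa [mul_assoc] using this
    · rw [hcmem] at hx ⊢
      have hm' : h⁻¹ * m * h ∈ M := by simpa using hM.conj_mem m hm h⁻¹
      have := hT₀.2.2 _ hm' _ hx
      simpa [mul_assoc] using this
  have hcomm : ∀ T S : Subgroup H, MN T → MN S → Nat.card T = Nat.card T₀ →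
      Nat.card S = Nat.card T₀ → T ≠ S → ∀ x ∈ T, ∀ y ∈ S, x * y = y * x := by
    intro T S hT hS hTc hSc hne x hx y hy
    have hbot : T ⊓ S = ⊥ := by
      by_contra hb
      have hMN : MN (T ⊓ S) := ⟨hb, inf_le_left.trans hT.2.1,
        fun m hm z hz => ⟨hT.2.2 m hm z hz.1, hS.2.2 m hm z hz.2⟩⟩
      exact hne ((hminMN T _ hTc hMN inf_le_left).symm.trans (hminMN S _ hSc hMN inf_le_right))
    have h1 : x * y * x⁻¹ * y⁻¹ ∈ T ⊓ S := by
      refine ⟨?_, S.mul_mem (hS.2.2 x (hT.2.1 hx) y hy) (S.inv_mem hy)⟩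
      rw [show x * y * x⁻¹ * y⁻¹ = x * (y * x⁻¹ * y⁻¹) by group]
      exact T.mul_mem hx (hT.2.2 y (hS.2.1 hy) _ (T.inv_mem hx))
    rw [hbot, Subgroup.mem_bot, mul_inv_eq_one, mul_inv_eq_iff_eq_mul] at h1
    exact h1
  have hgen : ∀ K : Subgroup H, (∀ h, c h ≤ K) → M ≤ K := by
    intro K hK
    have hsup : (⨆ h, c h) = M := by
      refine hmin _ ⟨fun x hx g => ?_⟩ (iSup_le fun h => (hcMN h).2.1)
        fun e => (hcMN 1).1 (eq_bot_iff.2 (e ▸ le_iSup c 1))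
      have : (⨆ h, c h) ≤ (⨆ h, c h).comap (MulAut.conj g).toMonoidHom := iSup_le fun h y hy => by
        refine le_iSup c (g * h) ((hcmem _ _).2 ?_)
        have := (hcmem h y).1 hy
        simpa [mul_assoc] using this
      simpa using this hx
    exact hsup ▸ iSup_le hK
  have hcenterM : ∀ a ∈ M, (∀ x ∈ M, a * x = x * a) → a = 1 := by
    intro a ha hac
    have hZ : M ⊓ Subgroup.centralizer (M : Set H) = ⊥ := hyp.no_abelian_normal hp hexp
      (haveI := hM; inferInstance) fun x hx y hy => (Subgroup.mem_centralizer_iff.1 hy.2 x hx.1)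
    have : a ∈ M ⊓ Subgroup.centralizer (M : Set H) :=
      ⟨ha, Subgroup.mem_centralizer_iff.2 fun x hx => (hac x hx).symm⟩
    rwa [hZ, Subgroup.mem_bot] at this
  have hcenter : ∀ h, ∀ a ∈ c h, (∀ x ∈ c h, a * x = x * a) → a = 1 := by
    intro h a ha hac
    refine hcenterM a ((hcMN h).2.1 ha) fun x hx => ?_
    refine (Subgroup.mem_centralizer_iff.1 (hgen (Subgroup.centralizer {a}) (fun k y hy => ?_) hx) a rfl)
    refine Subgroup.mem_centralizer_iff.2 fun z hz => ?_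
    rw [Set.mem_singleton_iff] at hz
    subst hz
    by_cases e : c h = c k
    · exact hac y (e ▸ hy)
    · exact hcomm _ _ (hcMN h) (hcMN k) (hccard h) (hccard k) e z ha y hy
  refine ⟨Set.range c, ⟨hM, hM1, ⟨c 1, 1, rfl⟩, ?_, ?_, ?_, ?_, ?_, ?_, hcenterM, ?_, ?_, ?_⟩⟩
  · rintro _ ⟨h, rfl⟩; exact (hcMN h).2.1
  · rintro _ ⟨h, rfl⟩; exact (hcMN h).2.2
  · rintro _ ⟨h, rfl⟩; exact (hcMN h).1
  · rintro _ ⟨h, rfl⟩ K hKT hK1 hK
    refine hminMN _ K (hccard h) ⟨hK1, hKT.trans (hcMN h).2.1, fun m hm => ?_⟩ hKT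
    have hle : M ≤ Subgroup.normalizer (K : Set H) := hgen _ fun k y hy => by
      by_cases e : c k = c h
      · rw [e] at hy
        refine Subgroup.mem_normalizer_iff.2 fun x => ⟨fun hx => hK y hy x hx, fun hx => ?_⟩
        have := hK y⁻¹ (inv_mem hy) _ hx
        simpa [mul_assoc] using this
      · have hc' : ∀ x ∈ K, y * x * y⁻¹ = x := fun x hx => by
          rw [hcomm _ _ (hcMN k) (hcMN h) (hccard k) (hccard h) e y hy x (hKT hx), mul_inv_cancel_right]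
        refine Subgroup.mem_normalizer_iff.2 fun x => ⟨fun hx => ?_, fun hx => ?_⟩
        · rw [hc' x hx]; exact hx
        · have e' : x = y * x * y⁻¹ := by
            have := hc' _ hx
            exact (mul_left_cancel (mul_right_cancel this)).symm
          rwa [e']
    exact fun x hx => ((Subgroup.mem_normalizer_iff.1 (hle hm)) x).1 hx
  · rintro _ ⟨h, rfl⟩ _ ⟨k, rfl⟩ hne
    exact hcomm _ _ (hcMN h) (hcMN k) (hccard h) (hccard k) hne
  · rintro _ ⟨h, rfl⟩; exact hcenter h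
  · exact fun K hK => hgen K fun h => hK _ ⟨h, rfl⟩
  · rintro _ ⟨k, rfl⟩ h
    exact ⟨c (h * k), ⟨_, rfl⟩, fun x => by simp [hcmem, mul_assoc]⟩
  · rintro _ ⟨h, rfl⟩ _ ⟨k, rfl⟩
    exact ⟨k * h⁻¹, fun x => by simp [hcmem, mul_assoc]⟩

omit hyp

/-- `a` is the component of `m` in `T`. -/
def Pr (T : Subgroup H) (m a : H) : Prop := a ∈ T ∧ ∀ x ∈ T, a⁻¹ * m * x = x * (a⁻¹ * m)

theorem Pr.mul {T : Subgroup H} {m m' a a' : H} (h : Pr T m a) (h' : Pr T m' a') :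
    Pr T (m * m') (a * a') := by
  refine ⟨mul_mem h.1 h'.1, fun x hx => ?_⟩
  have e : (a * a')⁻¹ * (m * m') = (a⁻¹ * m) * (a'⁻¹ * m') := by
    calc (a * a')⁻¹ * (m * m') = (a'⁻¹ * (a⁻¹ * m)) * m' := by group
      _ = ((a⁻¹ * m) * a'⁻¹) * m' := by rw [← h.2 _ (inv_mem h'.1)]
      _ = _ := by group
  rw [e, mul_assoc, h'.2 x hx, ← mul_assoc, h.2 x hx, mul_assoc]

theorem Pr.inv {T : Subgroup H} {m a : H} (h : Pr T m a) : Pr T m⁻¹ a⁻¹ := by
  refine ⟨inv_mem h.1, fun x hx => ?_⟩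
  have e : a⁻¹⁻¹ * m⁻¹ = (a⁻¹ * m)⁻¹ := by
    calc a⁻¹⁻¹ * m⁻¹ = a * ((a⁻¹ * m)⁻¹ * a⁻¹) := by group
      _ = a * (a⁻¹ * (a⁻¹ * m)⁻¹) := by
          rw [(show Commute (a⁻¹ * m) a⁻¹ from h.2 _ (inv_mem h.1)).inv_left.eq]
      _ = _ := by group
  rw [e]
  exact ((show Commute (a⁻¹ * m) x from h.2 x hx).inv_left).eq

theorem Pr.conj {T S : Subgroup H} {m a s : H} (hs : ∀ x, x ∈ T ↔ s * x * s⁻¹ ∈ S) (h : Pr T m a) :
    Pr S (s * m * s⁻¹) (s * a * s⁻¹) := by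
  refine ⟨(hs a).1 h.1, fun x hx => ?_⟩
  have hx' : s⁻¹ * x * s ∈ T := (hs _).2 (by simpa [mul_assoc] using hx)
  calc (s * a * s⁻¹)⁻¹ * (s * m * s⁻¹) * x = s * (a⁻¹ * m * (s⁻¹ * x * s)) * s⁻¹ := by group
    _ = s * ((s⁻¹ * x * s) * (a⁻¹ * m)) * s⁻¹ := by rw [h.2 _ hx']
    _ = x * ((s * a * s⁻¹)⁻¹ * (s * m * s⁻¹)) := by group

variable {M : Subgroup H} {F : Set (Subgroup H)} (fam : Fam M F)
include fam

theorem Fam.pr_unique {T : Subgroup H} (hT : T ∈ F) {m a a' : H} (h : Pr T m a) (h' : Pr T m a') :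
    a = a' := by
  have : a'⁻¹ * a = 1 := fam.center T hT _ (mul_mem (inv_mem h'.1) h.1) fun x hx => by
    rw [show a'⁻¹ * a = (a'⁻¹ * m) * (a⁻¹ * m)⁻¹ by group]
    exact ((show Commute (a'⁻¹ * m) x from h'.2 x hx).mul_left
      (show Commute (a⁻¹ * m) x from h.2 x hx).inv_left).eq
  exact (eq_of_inv_mul_eq_one this).symm

theorem Fam.pr_self {T : Subgroup H} {a : H} (ha : a ∈ T) : Pr T a a :=
  ⟨ha, fun x _ => by rw [inv_mul_cancel, one_mul, mul_one]⟩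

theorem Fam.pr_one {T S : Subgroup H} (hT : T ∈ F) (hS : S ∈ F) (hne : S ≠ T) {a : H} (ha : a ∈ S) :
    Pr T a 1 :=
  ⟨one_mem _, fun x hx => by rw [inv_one, one_mul]; exact fam.comm S hS T hT hne a ha x hx⟩

include hyp

theorem Hyp.no_fix {T : Subgroup H} (hT : T ∈ F) {n : V} (hn : n ≠ 1) :
    ¬ ∀ x ∈ T, x • n = n := by
  intro h
  refine hyp.normal_not_le fam.normal fam.ne_bot hn (fam.gen _ fun S hS y hy => ?_)
  obtain ⟨g, hg⟩ := fam.trans T hT S hS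
  obtain ⟨k, hk, s, hs, rfl⟩ := hyp.decomp fam.normal fam.ne_bot hn g
  have hy' : s⁻¹ * y * s ∈ T := (hg _).2 (by
    rw [show k * s * (s⁻¹ * y * s) * (k * s)⁻¹ = k * y * k⁻¹ by group]
    exact fam.mconj S hS k hk y hy)
  have := h _ hy'
  rw [mul_smul, mul_smul, show s • n = n from hs, inv_smul_eq_iff, show s • n = n from hs] at this
  exact this

theorem Hyp.conj_stab {T S : Subgroup H} (hT : T ∈ F) (hS : S ∈ F) {n : V} (hn : n ≠ 1) :
    ∃ s : H, s • n = n ∧ ∀ x, x ∈ T ↔ s * x * s⁻¹ ∈ S := by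
  obtain ⟨g, hg⟩ := fam.trans T hT S hS
  obtain ⟨k, hk, s, hs, rfl⟩ := hyp.decomp fam.normal fam.ne_bot hn g
  refine ⟨s, hs, fun x => ?_⟩
  rw [hg]
  constructor
  · intro h
    have := fam.mconj S hS _ (inv_mem hk) _ h
    simpa [mul_assoc] using this
  · intro h
    have := fam.mconj S hS k hk _ h
    simpa [mul_assoc] using this

/-- The dichotomy for a stabilizer: either it contains its components, or it meets the factors
trivially and projects onto each of them. -/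
theorem Hyp.dichotomy {n : V} (hn : n ≠ 1) :
    (∀ T ∈ F, ∀ r ∈ M, r • n = n → ∀ a, Pr T r a → a • n = n) ∨
    (∀ T ∈ F, (∀ x ∈ T, x • n = n → x = 1) ∧ ∀ a ∈ T, ∃ r ∈ M, r • n = n ∧ Pr T r a) := by
  let gens : Set H := {a | ∃ T ∈ F, ∃ r ∈ M, r • n = n ∧ Pr T r a}
  let Y : Subgroup H := Subgroup.closure gens
  by_cases hY : Y ≤ stabilizer H n
  · exact Or.inl fun T hT r hr hrn a ha => hY (Subgroup.subset_closure ⟨T, hT, r, hr, hrn, ha⟩)
  right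
  have hnorm : ∀ s : H, s • n = n → ∀ y ∈ Y, s * y * s⁻¹ ∈ Y := by
    intro s hs
    have : Y ≤ Y.comap (MulAut.conj s).toMonoidHom := (Subgroup.closure_le _).2 fun a ha => by
      obtain ⟨T, hT, r, hr, hrn, hra⟩ := ha
      obtain ⟨S, hS, hST⟩ := fam.conj T hT s
      have hs' : s⁻¹ • n = n := inv_smul_eq_iff.2 hs.symm
      exact Subgroup.subset_closure ⟨S, hS, s * r * s⁻¹, fam.normal.conj_mem r hr s,
        by rw [mul_smul, mul_smul, hs', hrn, hs], hra.conj hST⟩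
    exact fun y hy => this hy
  let E : Subgroup H :=
    { carrier := {h | ∃ y ∈ Y, ∃ s : H, s • n = n ∧ h = y * s}
      mul_mem' := by
        rintro _ _ ⟨y, hy, s, hs, rfl⟩ ⟨y', hy', s', hs', rfl⟩
        exact ⟨y * (s * y' * s⁻¹), mul_mem hy (hnorm s hs y' hy'), s * s',
          by rw [mul_smul, hs', hs], by group⟩
      one_mem' := ⟨1, one_mem _, 1, one_smul _ _, by rw [one_mul]⟩
      inv_mem' := by
        rintro _ ⟨y, hy, s, hs, rfl⟩
        have hs' : s⁻¹ • n = n := inv_smul_eq_iff.2 hs.symm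
        exact ⟨s⁻¹ * y⁻¹ * s⁻¹⁻¹, hnorm _ hs' _ (inv_mem hy), s⁻¹, hs', by group⟩ }
  have hE : E = ⊤ := (hyp.coatom n hn).2 E (lt_of_le_of_ne
    (fun s hs => ⟨1, one_mem _, s, hs, by rw [one_mul]⟩)
    fun e => hY (e ▸ fun y hy => ⟨y, hy, 1, one_smul _ _, by rw [mul_one]⟩))
  have hYM : Y ≤ M := (Subgroup.closure_le _).2 fun a ⟨T, hT, r, _, _, ha⟩ => fam.le T hT ha.1
  intro T hT
  let D : Subgroup H :=
    { carrier := {m | ∃ a r, r ∈ M ∧ r • n = n ∧ Pr T r a ∧ Pr T m a}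
      mul_mem' := by
        rintro _ _ ⟨a, r, hr, hrn, h1, h2⟩ ⟨a', r', hr', hrn', h1', h2'⟩
        exact ⟨a * a', r * r', mul_mem hr hr', by rw [mul_smul, hrn', hrn], h1.mul h1', h2.mul h2'⟩
      one_mem' := ⟨1, 1, one_mem _, one_smul _ _, fam.pr_self (one_mem _), fam.pr_self (one_mem _)⟩
      inv_mem' := by
        rintro _ ⟨a, r, hr, hrn, h1, h2⟩
        exact ⟨a⁻¹, r⁻¹, inv_mem hr, inv_smul_eq_iff.2 hrn.symm, h1.inv, h2.inv⟩ }
  have hYD : Y ≤ D := (Subgroup.closure_le _).2 fun a ⟨S, hS, r, hr, hrn, ha⟩ => by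
    by_cases e : S = T
    · subst e; exact ⟨a, r, hr, hrn, ha, fam.pr_self ha.1⟩
    · exact ⟨1, 1, one_mem _, one_smul _ _, fam.pr_self (one_mem _), fam.pr_one hT hS e ha.1⟩
  have hMpr : ∀ m ∈ M, ∃ a, Pr T m a := by
    let P : Subgroup H :=
      { carrier := {m | ∃ a, Pr T m a}
        mul_mem' := fun ⟨_, h⟩ ⟨_, h'⟩ => ⟨_, h.mul h'⟩
        one_mem' := ⟨1, fam.pr_self (one_mem _)⟩
        inv_mem' := fun ⟨_, h⟩ => ⟨_, h.inv⟩ }
    exact fun m hm => fam.gen P (fun S hS y hy => by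
      by_cases e : S = T
      · subst e; exact ⟨y, fam.pr_self hy⟩
      · exact ⟨1, fam.pr_one hT hS e hy⟩) hm
  have hsurj : ∀ a ∈ T, ∃ r ∈ M, r • n = n ∧ Pr T r a := by
    intro x hx
    obtain ⟨y, hy, s, hs, e⟩ : x ∈ E := by rw [hE]; trivial
    have hsM : s ∈ M := by
      rw [show s = y⁻¹ * x by rw [e]; group]
      exact mul_mem (inv_mem (hYM hy)) (fam.le T hT hx)
    obtain ⟨b, hb⟩ := hMpr s hsM
    have hxD : x ∈ D := e ▸ mul_mem (hYD hy) ⟨b, s, hsM, hs, hb, hb⟩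
    obtain ⟨a, r, hr, hrn, h1, h2⟩ := hxD
    rw [fam.pr_unique hT h2 (fam.pr_self hx)] at h1
    exact ⟨r, hr, hrn, h1⟩
  refine ⟨fun x hx hxn => ?_, hsurj⟩
  by_contra hx1
  refine hyp.no_fix fam hT hn fun z hz => ?_
  have hK : T ⊓ stabilizer H n = T := by
    refine fam.simple T hT _ inf_le_left (fun e => hx1 ?_) fun a ha k hk => ?_
    · have : x ∈ T ⊓ stabilizer H n := ⟨hx, hxn⟩
      rwa [e, Subgroup.mem_bot] at this
    · obtain ⟨r, hr, hrn, hra⟩ := hsurj a ha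
      have e : a * k * a⁻¹ = r * k * r⁻¹ := by
        calc a * k * a⁻¹ = a * ((a⁻¹ * r) * k * (a⁻¹ * r)⁻¹) * a⁻¹ := by
              rw [hra.2 k hk.1, mul_inv_cancel_right]
          _ = r * k * r⁻¹ := by group
      refine ⟨T.mul_mem (T.mul_mem ha hk.1) (T.inv_mem ha), ?_⟩
      show (a * k * a⁻¹) • n = n
      rw [e, mul_smul, mul_smul, inv_smul_eq_iff.2 hrn.symm, show k • n = n from hk.2, hrn]
  have : z ∈ T ⊓ stabilizer H n := by rw [hK]; exact hz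
  exact this.2

end CfsgLib.Recog.ExtremelyPrimitive
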