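/-
Linear groups in which every stabilizer of a non-identity element is maximal are almost simple.
-/
import Mathlib
import Cfsg.Agent.Lib.Recog.ExtremelyPrimitive.Family

set_option autoImplicit false
set_option linter.style.haveILetI false

namespace CfsgLib.Recog.ExtremelyPrimitive

open MulAction

variable {H : Type*} [Group H] [Finite H] {V : Type*} [CommGroup V] [Finite V]
  [MulDistribMulAction H V]

/-- The involutions (and the identity) of `T` fixing `n`. -/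
def J (T : Subgroup H) (n : V) : Set H := {x | x ∈ T ∧ x * x = 1 ∧ x • n = n}

theorem fix_comm {a b : H} {n : V} (h : a * b = b * a) (hb : b • n = n) : b • (a • n) = a • n := by
  rw [smul_smul, ← h, mul_smul, hb]

theorem eq_of_mul_eq_one' (hsq : ∀ n : V, n * n = 1) {a b : V} (h : a * b = 1) : a = b := by
  rw [eq_inv_of_mul_eq_one_left h, inv_eq_of_mul_eq_one_right (hsq b)]

/-- A non-trivial element all whose conjugates fix `n` forces `n = 1`. -/
theorem Hyp.conj_fix (hyp : Hyp H V) {y : H} (hy : y ≠ 1) {n : V}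
    (h : ∀ g : H, (g * y * g⁻¹) • n = n) : n = 1 := by
  refine hyp.normal_fix (K := Subgroup.normalClosure {y}) inferInstance (fun e => hy ?_) fun k hk => ?_
  · have : y ∈ Subgroup.normalClosure ({y} : Set H) := Subgroup.subset_normalClosure rfl
    rwa [e, Subgroup.mem_bot] at this
  · have hle : Subgroup.normalClosure {y} ≤ stabilizer H n := by
      refine (Subgroup.closure_le _).2 fun x hx => ?_
      obtain ⟨a, ha, hax⟩ := Group.mem_conjugatesOfSet_iff.1 hx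
      rw [Set.mem_singleton_iff] at ha
      subst ha
      obtain ⟨g, rfl⟩ := isConj_iff.1 hax
      exact h g
    exact hle hk

variable (hyp : Hyp H V) {M : Subgroup H} {F : Set (Subgroup H)} (fam : Fam M F)
include hyp fam

omit hyp in
theorem Fam.exists_involution {T : Subgroup H} (hT : T ∈ F) : ∃ t ∈ T, t ≠ 1 ∧ t * t = 1 := by
  haveI := Fact.mk Nat.prime_two
  have heven : 2 ∣ Nat.card T := by
    by_contra hodd
    haveI : Group.IsSolvable T := Cfsg.Agent.S0205.result (Nat.odd_iff.2 (by omega))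
    haveI : Nontrivial T := (Subgroup.nontrivial_iff_ne_bot T).2 (fam.tne T hT)
    have hlt := Group.IsSolvable.commutator_lt_top_of_nontrivial T
    by_cases hbot : (commutator T).map T.subtype = ⊥
    · refine fam.tne T hT ((Subgroup.eq_bot_iff_forall T).2 fun a ha => fam.center T hT a ha fun x hx => ?_)
      have hc : commutator T = ⊥ := (Subgroup.map_eq_bot_iff_of_injective _ T.subtype_injective).1 hbot
      rw [commutator_def, Subgroup.commutator_eq_bot_iff_le_centralizer] at hc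
      exact congrArg Subtype.val
        ((Subgroup.mem_centralizer_iff.1 (hc (Subgroup.mem_top (⟨x, hx⟩ : T)))) ⟨a, ha⟩ trivial)
    · have := fam.simple T hT _ (Subgroup.map_subtype_le _) hbot (by
        rintro a ha _ ⟨k, hk, rfl⟩
        exact ⟨⟨a, ha⟩ * k * ⟨a, ha⟩⁻¹, (inferInstance : (commutator T).Normal).conj_mem k hk _, rfl⟩)
      refine hlt.ne (Subgroup.map_injective T.subtype_injective ?_)
      rw [this, ← MonoidHom.range_eq_map, Subgroup.range_subtype]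
  obtain ⟨⟨t, htT⟩, ht⟩ := exists_prime_orderOf_dvd_card' 2 heven
  refine ⟨t, htT, fun e => by simp [e, Subgroup.orderOf_mk] at ht, ?_⟩
  rw [← pow_two, ← ht, Subgroup.orderOf_mk, pow_orderOf_eq_one]

theorem Hyp.ncard_J {T S : Subgroup H} (hT : T ∈ F) (hS : S ∈ F) {n : V} (hn : n ≠ 1) :
    (J T n).ncard = (J S n).ncard := by
  obtain ⟨s, hs, hsT⟩ := hyp.conj_stab fam hT hS hn
  have hs' : s⁻¹ • n = n := inv_smul_eq_iff.2 hs.symm
  have himg : (fun x => s * x * s⁻¹) '' J T n = J S n := by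
    ext y
    constructor
    · rintro ⟨x, ⟨hx, hx2, hxn⟩, rfl⟩
      refine ⟨(hsT x).1 hx, ?_, by rw [mul_smul, mul_smul, hs', hxn, hs]⟩
      rw [show s * x * s⁻¹ * (s * x * s⁻¹) = s * (x * x) * s⁻¹ by group, hx2, mul_one, mul_inv_cancel]
    · rintro ⟨hy, hy2, hyn⟩
      refine ⟨s⁻¹ * y * s, ⟨(hsT _).2 (by rwa [show s * (s⁻¹ * y * s) * s⁻¹ = y by group]), ?_,
        by rw [mul_smul, mul_smul, hs, hyn, hs']⟩, by group⟩
      rw [show s⁻¹ * y * s * (s⁻¹ * y * s) = s⁻¹ * (y * y) * s by group, hy2, mul_one, inv_mul_cancel]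
  rw [← himg, Set.ncard_image_of_injective _
    (fun a b h => mul_left_cancel (mul_right_cancel h))]

/-- An element of a factor normalizing its involutions fixing `n` fixes `n`. -/
theorem Hyp.norm_fix {T : Subgroup H} (hT : T ∈ F) {n : V} (hn : n ≠ 1)
    (hne : ∃ y ∈ J T n, y ≠ 1) {x : H} (hx : x ∈ T)
    (h : ∀ y ∈ J T n, (x * y * x⁻¹) • n = n) : x • n = n := by
  by_contra hxn
  let A : Set H := {y | ∃ S ∈ F, y ∈ J S n}
  let E : Subgroup H :=
    { carrier := {g | ∀ y ∈ A, g * y * g⁻¹ ∈ A}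
      mul_mem' := fun {a b} ha hb y hy => by
        have := ha _ (hb y hy)
        rwa [show a * (b * y * b⁻¹) * a⁻¹ = a * b * y * (a * b)⁻¹ by group] at this
      one_mem' := fun y hy => by rwa [one_mul, inv_one, mul_one]
      inv_mem' := fun {a} ha => by
        have hpow : ∀ k : ℕ, ∀ y ∈ A, a ^ k * y * (a ^ k)⁻¹ ∈ A := by
          intro k
          induction k with
          | zero => intro y hy; simpa using hy
          | succ k ih =>
            intro y hy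
            have := ha _ (ih y hy)
            rwa [show a * (a ^ k * y * (a ^ k)⁻¹) * a⁻¹ = a ^ (k + 1) * y * (a ^ (k + 1))⁻¹ by
              rw [pow_succ']; group] at this
        have e : a⁻¹ = a ^ (orderOf a - 1) := by
          refine inv_eq_of_mul_eq_one_right ?_
          rw [← pow_succ', Nat.sub_add_cancel (orderOf_pos a), pow_orderOf_eq_one]
        intro y hy
        rw [e]
        exact hpow _ y hy }
  have hsE : stabilizer H n ≤ E := by
    rintro s (hs : s • n = n) y ⟨S, hS, hyS, hy2, hyn⟩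
    obtain ⟨S', hS', hSS⟩ := fam.conj S hS s
    refine ⟨S', hS', (hSS y).1 hyS, ?_, ?_⟩
    · rw [show s * y * s⁻¹ * (s * y * s⁻¹) = s * (y * y) * s⁻¹ by group, hy2, mul_one, mul_inv_cancel]
    · rw [mul_smul, mul_smul, inv_smul_eq_iff.2 hs.symm, hyn, hs]
  have hxE : x ∈ E := by
    rintro y ⟨S, hS, hy⟩
    by_cases e : S = T
    · subst e
      refine ⟨S, hS, S.mul_mem (S.mul_mem hx hy.1) (S.inv_mem hx), ?_, h y hy⟩
      rw [show x * y * x⁻¹ * (x * y * x⁻¹) = x * (y * y) * x⁻¹ by group, hy.2.1, mul_one, mul_inv_cancel]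
    · rw [fam.comm T hT S hS (Ne.symm e) x hx y hy.1, mul_inv_cancel_right]
      exact ⟨S, hS, hy⟩
  have hE : E = ⊤ := (hyp.coatom n hn).2 E (lt_of_le_of_ne hsE fun e => hxn
    (show x ∈ stabilizer H n by rw [e]; exact hxE))
  obtain ⟨y, hy, hy1⟩ := hne
  refine hn (hyp.conj_fix hy1 fun g => ?_)
  have hg : g ∈ E := by rw [hE]; trivial
  obtain ⟨S, -, hS⟩ := hg y ⟨T, hT, hy⟩
  exact hS.2.2

/-- With two factors the partner in the other factor of an involution fixing `v` fixes `v`. -/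
theorem Hyp.step (hsq : ∀ n : V, n * n = 1) {T S : Subgroup H} (hT : T ∈ F) (hS : S ∈ F)
    (hne : T ≠ S) {v : V} (hv : v ≠ 1) {g g' : H} (hg : g ∈ T) (hg' : g' ∈ S) {u : V}
    (hu : u = g • v * g' • v) (htT : ∀ x ∈ T, x • u = u → x = 1) (htS : ∀ x ∈ S, x • u = u → x = 1)
    (hpart : ∀ y ∈ T, ∃ s ∈ S, (y * s) • u = u)
    (hmax : ∀ n : V, n ≠ 1 → (J S n).ncard ≤ (J S v).ncard)
    {y : H} (hy : y ∈ J T v) : ∃ s ∈ J S v, (y * s) • u = u := by
  obtain ⟨hyT, hy2, hyv⟩ := hy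
  obtain ⟨s, hsS, hs⟩ := hpart y hyT
  have hys : y * s = s * y := fam.comm T hT S hS hne y hyT s hsS
  have hs2 : s * s = 1 := by
    refine htS _ (S.mul_mem hsS hsS) ?_
    calc (s * s) • u = (y * y) • (s * s) • u := by rw [hy2, one_smul]
      _ = ((y * s) * (y * s)) • u := by
        rw [smul_smul]; congr 1
        calc y * y * (s * s) = y * (y * s) * s := by group
          _ = y * (s * y) * s := by rw [hys]
          _ = _ := by group
      _ = u := by rw [mul_smul, hs, hs]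
  refine ⟨s, ⟨hsS, hs2, ?_⟩, hs⟩
  have hyu : y • u = s • u := by
    calc y • u = y • (y * s) • u := by rw [hs]
      _ = s • u := by rw [smul_smul, ← mul_assoc, hy2, one_mul]
  set w := u * y • u with hw
  by_cases hw1 : w = 1
  · have hy1 : y = 1 := htT y hyT (eq_of_mul_eq_one' hsq hw1).symm
    rw [hy1, one_smul] at hyu
    rw [htS s hsS hyu.symm, one_smul]
  · have hwe : w = g • v * y • g • v := by
      rw [hw, hu, smul_mul', fix_comm (fam.comm S hS T hT hne.symm g' hg' y hyT) hyv]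
      calc g • v * g' • v * (y • g • v * g' • v) = g • v * y • g • v * (g' • v * g' • v) := by ac_rfl
        _ = _ := by rw [hsq, mul_one]
    have hsub : J S v ⊆ J S w := by
      rintro z ⟨hz, hz2, hzv⟩
      refine ⟨hz, hz2, ?_⟩
      rw [hwe, smul_mul', fix_comm (fam.comm T hT S hS hne g hg z hz) hzv, smul_smul y g v,
        fix_comm (fam.comm T hT S hS hne (y * g) (T.mul_mem hyT hg) z hz) hzv]
    have hsw : s • w = w := by
      rw [hw, hyu, smul_mul', smul_smul, hs2, one_smul, mul_comm]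
    have heq : J S v = J S w := Set.eq_of_subset_of_ncard_le hsub (hmax w hw1) (Set.toFinite _)
    have : s ∈ J S v := by rw [heq]; exact ⟨hsS, hs2, hsw⟩
    exact this.2.2

theorem Hyp.false_of_two (hsq : ∀ n : V, n * n = 1) {T₁ T₂ : Subgroup H} (h₁ : T₁ ∈ F)
    (h₂ : T₂ ∈ F) (hne : T₁ ≠ T₂) : False := by
  obtain ⟨t, ht, ht1, ht2⟩ := fam.exists_involution h₁
  obtain ⟨n₀, hn₀⟩ : ∃ n : V, t • n ≠ n := by
    by_contra hall
    push Not at hall
    exact ht1 (hyp.faith t hall)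
  have hn1 : n₀ * t • n₀ ≠ 1 := fun e => hn₀ (eq_of_mul_eq_one' hsq e).symm
  obtain ⟨v, hv, hvmax⟩ := Set.Finite.exists_maximalFor (fun n : V => (J T₁ n).ncard)
    {n : V | n ≠ 1} (Set.toFinite _) ⟨_, hn1⟩
  have hmax1 : ∀ n : V, n ≠ 1 → (J T₁ n).ncard ≤ (J T₁ v).ncard := fun n hn => by
    rcases le_total (J T₁ n).ncard (J T₁ v).ncard with h | h
    · exact h
    · exact hvmax hn h
  have hmax : ∀ S ∈ F, ∀ n : V, n ≠ 1 → (J S n).ncard ≤ (J S v).ncard := fun S hS n hn => by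
    rw [hyp.ncard_J fam hS h₁ hn, hyp.ncard_J fam hS h₁ hv]; exact hmax1 n hn
  have h2le : 2 ≤ (J T₁ v).ncard := by
    refine le_trans ?_ (hmax1 _ hn1)
    have hsub : ({1, t} : Set H) ⊆ J T₁ (n₀ * t • n₀) := by
      rintro x (rfl | hx)
      · exact ⟨one_mem _, one_mul _, one_smul _ _⟩
      · rw [Set.mem_singleton_iff] at hx
        subst hx
        exact ⟨ht, ht2, by rw [smul_mul', smul_smul, ht2, one_smul, mul_comm]⟩
    exact (Set.ncard_pair (Ne.symm ht1)).symm.le.trans (Set.ncard_le_ncard hsub (Set.toFinite _))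
  have hnt : ∀ S ∈ F, ∃ y ∈ J S v, y ≠ 1 := fun S hS =>
    Set.exists_ne_of_one_lt_ncard (by rw [hyp.ncard_J fam hS h₁ hv]; omega) 1
  have hinv : ∀ S ∈ F, ∃ g ∈ S, g * g = 1 ∧ g • v ≠ v := fun S hS => by
    by_contra hno
    push Not at hno
    refine hyp.no_fix fam hS hv fun x hx => hyp.norm_fix fam hS hv (hnt S hS) hx fun y hy => ?_
    refine hno _ (S.mul_mem (S.mul_mem hx hy.1) (S.inv_mem hx)) ?_
    rw [show x * y * x⁻¹ * (x * y * x⁻¹) = x * (y * y) * x⁻¹ by group, hy.2.1, mul_one, mul_inv_cancel]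
  obtain ⟨g₁, hg₁, hg₁2, hg₁v⟩ := hinv T₁ h₁
  obtain ⟨g₂, hg₂, hg₂2, hg₂v⟩ := hinv T₂ h₂
  have hgg : g₁ * g₂ = g₂ * g₁ := fam.comm T₁ h₁ T₂ h₂ hne g₁ hg₁ g₂ hg₂
  obtain ⟨u, hu⟩ : ∃ u : V, u = g₁ • v * g₂ • v := ⟨_, rfl⟩
  have hu1 : u ≠ 1 := by
    intro e
    have e' := eq_of_mul_eq_one' hsq (hu.symm.trans e)
    refine hg₁v (hyp.norm_fix fam h₁ hv (hnt T₁ h₁) hg₁ fun y hy => ?_)
    rw [mul_smul, mul_smul, inv_eq_of_mul_eq_one_right hg₁2, e',
      fix_comm (fam.comm T₂ h₂ T₁ h₁ hne.symm g₂ hg₂ y hy.1) hy.2.2, ← e', smul_smul, hg₁2, one_smul]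
  rcases hyp.dichotomy fam hu1 with hA | hB
  · have hgu : (g₁ * g₂) • u = u := by
      rw [hu, smul_mul', smul_smul, smul_smul, hgg, mul_assoc g₂, hg₁2, mul_one, ← hgg,
        mul_assoc g₁, hg₂2, mul_one, mul_comm]
    have hpr : Pr T₁ (g₁ * g₂) g₁ := by
      have := (fam.pr_self hg₁).mul (fam.pr_one h₁ h₂ hne.symm hg₂)
      rwa [mul_one] at this
    have hfix := hA T₁ h₁ _ (mul_mem (fam.le T₁ h₁ hg₁) (fam.le T₂ h₂ hg₂)) hgu g₁ hpr
    have hw1 : v * g₂ • v ≠ 1 := fun e => hg₂v (eq_of_mul_eq_one' hsq e).symm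
    have hgw : g₁ • (v * g₂ • v) = v * g₂ • v := by
      refine eq_of_mul_eq_one' hsq ?_
      rw [hu, smul_mul', smul_smul, hg₁2, one_smul] at hfix
      rw [smul_mul']
      calc g₁ • v * g₁ • g₂ • v * (v * g₂ • v)
          = v * g₁ • g₂ • v * (g₁ • v * g₂ • v) := by ac_rfl
        _ = 1 := by rw [hfix, hsq]
    have hsub : J T₁ v ⊂ J T₁ (v * g₂ • v) := by
      refine ⟨fun y hy => ⟨hy.1, hy.2.1, ?_⟩, fun h => hg₁v (h ⟨hg₁, hg₁2, hgw⟩).2.2⟩
      rw [smul_mul', hy.2.2, fix_comm (fam.comm T₂ h₂ T₁ h₁ hne.symm g₂ hg₂ y hy.1) hy.2.2]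
    exact absurd (hmax1 _ hw1) (not_le.2 (Set.ncard_lt_ncard hsub (Set.toFinite _)))
  have hF : ∀ S ∈ F, S = T₁ ∨ S = T₂ := fun S hS => by
    by_contra hno
    push Not at hno
    obtain ⟨y, hy, hy1⟩ := hnt S hS
    refine hy1 ((hB S hS).1 y hy.1 ?_)
    rw [hu, smul_mul', fix_comm (fam.comm T₁ h₁ S hS hno.1.symm g₁ hg₁ y hy.1) hy.2.2,
      fix_comm (fam.comm T₂ h₂ S hS hno.2.symm g₂ hg₂ y hy.1) hy.2.2]
  have hM : M ≤ T₁ ⊔ T₂ := fam.gen _ fun S hS => by
    rcases hF S hS with rfl | rfl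
    exacts [le_sup_left, le_sup_right]
  have hcomm := fam.comm T₁ h₁ T₂ h₂ hne
  let D : Subgroup H :=
    { carrier := {m | ∃ a ∈ T₁, ∃ b ∈ T₂, m = a * b}
      mul_mem' := by
        rintro _ _ ⟨a, ha, b, hb, rfl⟩ ⟨a', ha', b', hb', rfl⟩
        refine ⟨a * a', mul_mem ha ha', b * b', mul_mem hb hb', ?_⟩
        calc a * b * (a' * b') = a * (b * a') * b' := by group
          _ = a * (a' * b) * b' := by rw [hcomm a' ha' b hb]
          _ = _ := by group
      one_mem' := ⟨1, one_mem _, 1, one_mem _, (one_mul _).symm⟩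
      inv_mem' := by
        rintro _ ⟨a, ha, b, hb, rfl⟩
        exact ⟨a⁻¹, inv_mem ha, b⁻¹, inv_mem hb, by
          rw [mul_inv_rev, hcomm a⁻¹ (inv_mem ha) b⁻¹ (inv_mem hb)]⟩ }
  have hMD : M ≤ D := hM.trans (sup_le (fun a ha => ⟨a, ha, 1, one_mem _, (mul_one _).symm⟩)
    fun b hb => ⟨1, one_mem _, b, hb, (one_mul _).symm⟩)
  have hpart1 : ∀ y ∈ T₁, ∃ s ∈ T₂, (y * s) • u = u := fun y hy => by
    obtain ⟨r, hr, hru, hry⟩ := (hB T₁ h₁).2 y hy
    obtain ⟨a, ha, b, hb, rfl⟩ := hMD hr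
    have hpr : Pr T₁ (a * b) a := by
      have := (fam.pr_self ha).mul (fam.pr_one h₁ h₂ hne.symm hb)
      rwa [mul_one] at this
    exact ⟨b, hb, by rw [← fam.pr_unique h₁ hpr hry]; exact hru⟩
  have hpart2 : ∀ y ∈ T₂, ∃ s ∈ T₁, (y * s) • u = u := fun y hy => by
    obtain ⟨r, hr, hru, hry⟩ := (hB T₂ h₂).2 y hy
    obtain ⟨a, ha, b, hb, rfl⟩ := hMD hr
    have hpr : Pr T₂ (a * b) b := by
      have := (fam.pr_one h₂ h₁ hne ha).mul (fam.pr_self hb)
      rwa [one_mul] at this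
    refine ⟨a, ha, ?_⟩
    rw [← fam.pr_unique h₂ hpr hry, ← hcomm a ha b hb]; exact hru
  have huniq : ∀ y ∈ T₁, ∀ s ∈ T₂, ∀ s' ∈ T₂, (y * s) • u = u → (y * s') • u = u → s = s' := by
    intro y _ s hs s' hs' h h'
    refine eq_of_inv_mul_eq_one ((hB T₂ h₂).1 _ (T₂.mul_mem (T₂.inv_mem hs) hs') ?_)
    have : ((y * s)⁻¹ * (y * s')) • u = u := by
      rw [mul_smul, h', inv_smul_eq_iff]; exact h.symm
    rwa [show (y * s)⁻¹ * (y * s') = s⁻¹ * s' by group] at this
  -- the partner of any element of `T₁` fixing `v` fixes `v`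
  have hfixs : ∀ y ∈ T₁, y • v = v → ∀ s ∈ T₂, (y * s) • u = u → s • v = v := by
    intro y hy hyv s hs hys
    refine hyp.norm_fix fam h₂ hv (hnt T₂ h₂) hs fun z hz => ?_
    obtain ⟨z', hz', hzz⟩ := hyp.step fam hsq h₂ h₁ hne.symm hv hg₂ hg₁ (hu.trans (mul_comm _ _))
      (hB T₂ h₂).1 (hB T₁ h₁).1 hpart2 (hmax T₁ h₁) hz
    have hy'v : y⁻¹ • v = v := inv_smul_eq_iff.2 hyv.symm
    have hz'' : y * z' * y⁻¹ ∈ J T₁ v := by
      refine ⟨T₁.mul_mem (T₁.mul_mem hy hz'.1) (T₁.inv_mem hy), ?_, ?_⟩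
      · rw [show y * z' * y⁻¹ * (y * z' * y⁻¹) = y * (z' * z') * y⁻¹ by group, hz'.2.1, mul_one,
          mul_inv_cancel]
      · rw [mul_smul, mul_smul, hy'v, hz'.2.2, hyv]
    obtain ⟨s', hs', hs'u⟩ := hyp.step fam hsq h₁ h₂ hne hv hg₁ hg₂ hu
      (hB T₁ h₁).1 (hB T₂ h₂).1 hpart1 (hmax T₂ h₂) hz''
    have hconj : ((y * z' * y⁻¹) * (s * z * s⁻¹)) • u = u := by
      have e : (y * s) * (z * z') * (y * s)⁻¹ = (y * z' * y⁻¹) * (s * z * s⁻¹) := by
        rw [← hcomm z' hz'.1 z hz.1]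
        calc y * s * (z' * z) * (y * s)⁻¹ = y * (s * z') * z * s⁻¹ * y⁻¹ := by group
          _ = y * (z' * s) * z * s⁻¹ * y⁻¹ := by rw [hcomm z' hz'.1 s hs]
          _ = y * z' * ((s * z * s⁻¹) * y⁻¹) := by group
          _ = y * z' * (y⁻¹ * (s * z * s⁻¹)) := by
            rw [hcomm y⁻¹ (inv_mem hy) _ (T₂.mul_mem (T₂.mul_mem hs hz.1) (T₂.inv_mem hs))]
          _ = _ := by group
      rw [← e, mul_smul, mul_smul, inv_smul_eq_iff.2 hys.symm, hzz, hys]
    rw [huniq _ hz''.1 _ (T₂.mul_mem (T₂.mul_mem hs hz.1) (T₂.inv_mem hs)) _ hs'.1 hconj hs'u]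
    exact hs'.2.2
  -- the cocycle
  have hcfix : ∀ y ∈ T₁, y • v = v → ∀ z ∈ T₁, z • v = v →
      z • (g₁ • v * y • g₁ • v) = g₁ • v * y • g₁ • v := by
    intro y hy hyv z hz hzv
    obtain ⟨s, hs, hys⟩ := hpart1 y hy
    have hsv := hfixs y hy hyv s hs hys
    have hsinv : s⁻¹ ∈ T₂ := inv_mem hs
    have hyu : y • u = s⁻¹ • u := by
      rw [eq_inv_smul_iff, smul_smul, ← hcomm y hy s hs, hys]
    have e : g₁ • v * y • g₁ • v = g₂ • v * s⁻¹ • g₂ • v := by
      refine eq_of_mul_eq_one' hsq ?_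
      rw [hu, smul_mul', smul_mul', fix_comm (hcomm y hy g₂ hg₂).symm hyv,
        fix_comm (hcomm g₁ hg₁ s⁻¹ hsinv) (inv_smul_eq_iff.2 hsv.symm)] at hyu
      calc g₁ • v * y • g₁ • v * (g₂ • v * s⁻¹ • g₂ • v)
          = (y • g₁ • v * g₂ • v) * (g₁ • v * s⁻¹ • g₂ • v) := by ac_rfl
        _ = 1 := by rw [hyu, hsq]
    rw [e, smul_mul', smul_smul s⁻¹ g₂ v, fix_comm (hcomm z hz g₂ hg₂).symm hzv,
      fix_comm (hcomm z hz _ (T₂.mul_mem hsinv hg₂)).symm hzv]
  have hR2 : ∀ y ∈ T₁, y • v = v → y * y = 1 := by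
    intro y hy hyv
    refine (hB T₁ h₁).1 _ (T₁.mul_mem hy hy) ?_
    have hc := hcfix y hy hyv y hy hyv
    have h' : (y * y) • g₁ • v = g₁ • v := by
      rw [smul_mul'] at hc
      rw [mul_smul]
      exact mul_left_cancel (hc.trans (mul_comm _ _))
    rw [hu, smul_mul', h', fix_comm (hcomm (y * y) (T₁.mul_mem hy hy) g₂ hg₂).symm
      (by rw [mul_smul, hyv, hyv])]
  -- a self-normalizing elementary abelian `2`-subgroup
  haveI := Fact.mk Nat.prime_two
  let R : Subgroup T₁ := (stabilizer H v).comap T₁.subtype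
  have hRsq : ∀ x : T₁, x ∈ R → x * x = 1 := fun x hx => Subtype.ext (hR2 x.1 x.2 hx)
  have hRp : IsPGroup 2 R := fun x => ⟨1, Subtype.ext (by
    rw [pow_one, pow_two]; exact hRsq x.1 x.2)⟩
  have hRN : Subgroup.normalizer (R : Set T₁) = R := by
    refine le_antisymm (fun x hx => ?_) Subgroup.le_normalizer
    exact hyp.norm_fix fam h₁ hv (hnt T₁ h₁) x.2 fun y hy =>
      ((Subgroup.mem_normalizer_iff.1 hx) ⟨y, hy.1⟩).1 hy.2.2
  obtain ⟨P, hP⟩ := hRp.exists_le_sylow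
  have hPR : (P : Subgroup T₁) = R := by
    refine (Subgroup.eq_of_le_of_card_ge hP ?_).symm
    obtain ⟨m, hm⟩ := IsPGroup.iff_card.1 P.2
    obtain ⟨k, hk⟩ := IsPGroup.iff_card.1 hRp
    rw [hk, hm]
    by_contra hlt
    have hkm : k + 1 ≤ m := by
      rw [not_le, Nat.pow_lt_pow_iff_right one_lt_two] at hlt; omega
    have hd : 2 ^ (k + 1) ∣ Nat.card T₁ :=
      ((pow_dvd_pow 2 hkm).trans hm.symm.dvd).trans (Subgroup.card_subgroup_dvd_card _)
    have := Sylow.prime_pow_dvd_card_normalizer hd hk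
    rw [hRN, hk, Nat.pow_dvd_pow_iff_le_right one_lt_two] at this
    omega
  have hPab : Subgroup.normalizer ((P : Subgroup T₁) : Set T₁) ≤ Subgroup.centralizer ((P : Subgroup T₁) : Set T₁) := by
    rw [hPR, hRN]
    intro x hx
    refine Subgroup.mem_centralizer_iff.2 fun z hz => ?_
    have e := hRsq _ (mul_mem hx hz)
    have ex := inv_eq_of_mul_eq_one_right (hRsq x hx)
    have ez := inv_eq_of_mul_eq_one_right (hRsq z hz)
    rw [← inv_eq_of_mul_eq_one_right e, mul_inv_rev, ex, ez]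
  obtain ⟨K, hKn, hK⟩ : ∃ K : Subgroup T₁, K.Normal ∧ Subgroup.IsComplement' K (P : Subgroup T₁) :=
    ⟨_, MonoidHom.normal_ker _, MonoidHom.ker_transferSylow_isComplement' P hPab⟩
  by_cases hKb : K.map T₁.subtype = ⊥
  · have hb : K = ⊥ := (Subgroup.map_eq_bot_iff_of_injective _ T₁.subtype_injective).1 hKb
    rw [hb, Subgroup.isComplement'_bot_left] at hK
    refine fam.tne T₁ h₁ ((Subgroup.eq_bot_iff_forall T₁).2 fun a ha => fam.center T₁ h₁ a ha fun x hx => ?_)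
    have hxR : ∀ z : T₁, z ∈ Subgroup.centralizer ((P : Subgroup T₁) : Set T₁) := fun z => hPab (by
      rw [hK, Subgroup.mem_normalizer_iff]; exact fun _ => ⟨fun _ => trivial, fun _ => trivial⟩)
    exact congrArg Subtype.val (Subgroup.mem_centralizer_iff.1 (hxR ⟨x, hx⟩) ⟨a, ha⟩ (by rw [hK]; trivial))
  · have := fam.simple T₁ h₁ _ (Subgroup.map_subtype_le _) hKb (by
      rintro a ha _ ⟨k, hk, rfl⟩
      exact ⟨⟨a, ha⟩ * k * ⟨a, ha⟩⁻¹, hKn.conj_mem k hk _, rfl⟩)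
    have hKt : K = ⊤ := Subgroup.map_injective T₁.subtype_injective (by
      rw [this, ← MonoidHom.range_eq_map, Subgroup.range_subtype])
    rw [hKt, Subgroup.isComplement'_top_left] at hK
    obtain ⟨y, hy, hy1⟩ := hnt T₁ h₁
    have : (⟨y, hy.1⟩ : T₁) ∈ (P : Subgroup T₁) := by rw [hPR]; exact hy.2.2
    rw [hK, Subgroup.mem_bot] at this
    exact hy1 (congrArg Subtype.val this)

omit fam in
/-- The group is almost simple. -/
theorem Hyp.exists_simple {p : ℕ} (hp : p.Prime) (hexp : ∀ n : V, n ^ p = 1) :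
    ∃ T : Subgroup H, T.Normal ∧ IsSimpleGroup T ∧ ¬ IsMulCommutative T ∧
      Subgroup.centralizer (T : Set H) = ⊥ := by
  have hp2 := hyp.prime_eq_two hp hexp
  have hsq : ∀ n : V, n * n = 1 := fun n => by rw [← pow_two, ← hp2]; exact hexp n
  have htop : (⊤ : Subgroup H) ≠ ⊥ := by
    intro e
    haveI : Subsingleton H := (Subgroup.subsingleton_iff).1 (subsingleton_of_bot_eq_top e.symm)
    exact hyp.nonsolv inferInstance
  obtain ⟨M, hM, hM1, -, hmin⟩ :=
    exists_minimal_normal (inferInstance : (⊤ : Subgroup H).Normal) htop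
  obtain ⟨F, fam⟩ := hyp.exists_fam hp hexp hM hM1 hmin
  obtain ⟨T, hT⟩ := fam.nonempty
  have hone : ∀ S ∈ F, S = T := fun S hS => by
    by_contra hne; exact hyp.false_of_two fam hsq hS hT hne
  have hMT : M = T := le_antisymm (fam.gen T fun S hS => (hone S hS).le) (fam.le T hT)
  subst hMT
  refine ⟨M, hM, ?_, ?_, ?_⟩
  · haveI : Nontrivial M := (Subgroup.nontrivial_iff_ne_bot M).2 hM1
    refine { eq_bot_or_eq_top_of_normal := fun K hK => ?_ }
    by_cases hb : K.map M.subtype = ⊥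
    · exact Or.inl ((Subgroup.map_eq_bot_iff_of_injective _ M.subtype_injective).1 hb)
    · have := fam.simple M hT _ (Subgroup.map_subtype_le _) hb (by
        rintro a ha _ ⟨k, hk, rfl⟩
        exact ⟨⟨a, ha⟩ * k * ⟨a, ha⟩⁻¹, hK.conj_mem k hk _, rfl⟩)
      exact Or.inr (Subgroup.map_injective M.subtype_injective (by
        rw [this, ← MonoidHom.range_eq_map, Subgroup.range_subtype]))
  · intro hc
    refine hM1 ((Subgroup.eq_bot_iff_forall M).2 fun a ha => fam.centerM a ha fun x hx => ?_)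
    exact congrArg Subtype.val (hc.is_comm.comm (⟨a, ha⟩ : M) ⟨x, hx⟩)
  · by_contra hC1
    haveI := hM
    have hC : (Subgroup.centralizer (M : Set H)).Normal := inferInstance
    obtain ⟨t, ht, ht1, ht2⟩ := fam.exists_involution hT
    obtain ⟨n₀, hn₀⟩ : ∃ n : V, t • n ≠ n := by
      by_contra hall
      push Not at hall
      exact ht1 (hyp.faith t hall)
    have hn1 : n₀ * t • n₀ ≠ 1 := fun e => hn₀ (eq_of_mul_eq_one' hsq e).symm
    refine hn1 (hyp.conj_fix ht1 fun g => ?_)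
    obtain ⟨k, hk, s, hs, hks⟩ := hyp.decomp hC hC1 hn1 g⁻¹
    have htn : t • (n₀ * t • n₀) = n₀ * t • n₀ := by
      rw [smul_mul', smul_smul, ht2, one_smul, mul_comm]
    have : t • g⁻¹ • (n₀ * t • n₀) = g⁻¹ • (n₀ * t • n₀) := by
      rw [hks, mul_smul, show s • (n₀ * t • n₀) = n₀ * t • n₀ from hs]
      exact fix_comm (Subgroup.mem_centralizer_iff.1 hk t ht).symm htn
    rw [mul_smul, mul_smul, this, smul_inv_smul]

end CfsgLib.Recog.ExtremelyPrimitive
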